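import Groth.Agent.H65.Rees.Setup
import Groth.Agent.H12.QCohAbelian
import Groth.Agent.H12.QCohEpi
import Groth.Agent.H17.QFlat.BaseChange
import Groth.Agent.H8.QcqsPush
import Groth.Agent.H44.PullbackAffine

/-!
# REES chain: the Rees sheaf `ℛ` is quasi-coherent (of finite type) when `F` is
-/

set_option autoImplicit false
universe u
open CategoryTheory CategoryTheory.Limits AlgebraicGeometry

namespace Groth.Agent.H65.Rees

variable {A : Type u} [CommRing A] (I : Ideal A) (X : Scheme.{u})
  [X.Over (Spec (CommRingCat.of A))] (F : X.Modules)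

instance isQuasicoherent_GF [F.IsQuasicoherent] : (GF I X F).IsQuasicoherent :=
  Groth.Agent.H44.isQuasicoherent_pullback (g I X) F

instance isQuasicoherent_NF [F.IsQuasicoherent] : (NF I X F).IsQuasicoherent :=
  Groth.Agent.H44.isQuasicoherent_pullback (h I X) (GF I X F)

instance isQuasicoherent_push_NF [F.IsQuasicoherent] :
    ((Scheme.Modules.pushforward (h I X)).obj (NF I X F)).IsQuasicoherent :=
  Groth.Agent.H8.isQuasicoherent_pushforward_of_qcqs (h I X) (NF I X F)

instance isQuasicoherent_amb [F.IsQuasicoherent] : (amb I X F).IsQuasicoherent :=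
  Groth.Agent.H8.isQuasicoherent_pushforward_of_qcqs (g I X) _

instance isQuasicoherent_ℛ [F.IsQuasicoherent] : (ℛ I X F).IsQuasicoherent := by
  have h1 : (Abelian.image (η I X F)).IsQuasicoherent :=
    Groth.Agent.H12.QCohAbelian.isQuasicoherent_image (η I X F)
  exact Groth.Agent.H12.QCohAbelian.isQuasicoherent_of_iso (Abelian.imageIsoImage (η I X F))

instance isQuasicoherent_push_ℛ [F.IsQuasicoherent] :
    ((Scheme.Modules.pushforward (g I X)).obj (ℛ I X F)).IsQuasicoherent :=
  Groth.Agent.H8.isQuasicoherent_pushforward_of_qcqs (g I X) _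

/-- The Rees sheaf of a coherent (= quasi-coherent of finite type) module is coherent
(= quasi-coherent of finite type). -/
theorem isCoh_ℛ (hF : Coh.IsCoh F) : Coh.IsCoh (ℛ I X F) := by
  have : F.IsQuasicoherent := hF.1
  have : SheafOfModules.IsFiniteType (R := X.ringCatSheaf) F := hF.2
  refine ⟨isQuasicoherent_ℛ I X F, ?_⟩
  have h1 : SheafOfModules.IsFiniteType (R := (XS I X).ringCatSheaf) (GF I X F) :=
    Groth.Agent.H17.QFlat.isFiniteType_pullback (g I X) F
  exact Groth.Agent.H12.QCohEpi.isFiniteType_of_epi (ℛπ I X F) h1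

end Groth.Agent.H65.Rees
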