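import Mathlib
import Groth.Agent.S6842

/-!
# Sections of a coproduct of `O_X`-modules over a quasi-compact open of a scheme
-/

set_option autoImplicit false
universe u
open CategoryTheory CategoryTheory.Limits AlgebraicGeometry

namespace Groth.Agent.H65.Rees

variable {X : Scheme.{u}}

/-- Sections of a coproduct over a quasi-compact open: every section is a finite sum of sections of
the summands, and such a sum vanishes only if every term does. -/
theorem sections_sigma {ι : Type u} (G : ι → X.Modules) (U : X.Opens)
    (hU : IsCompact (U : Set X)) :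
    (∀ s : Γ(∐ G, U), ∃ (S : Finset ι) (t : ∀ i, Γ(G i, U)),
        s = ∑ i ∈ S, (Sigma.ι G i).app U (t i)) ∧
      ∀ (S : Finset ι) (t : ∀ i, Γ(G i, U)),
        ∑ i ∈ S, (Sigma.ι G i).app U (t i) = 0 → ∀ i ∈ S, t i = 0 :=
  Groth.Agent.S6842.result X.sheaf G U hU

end Groth.Agent.H65.Rees
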