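import Groth.Agent.H65.Rees.Spec
import Groth.Agent.H65.Rees.SigmaSections
import Groth.Agent.Lead.Coh.IdealMul
import Groth.Agent.H12.QCohAbelian

/-!
# REES chain (R3): `ΨS : ∐_k I^k F ⟶ g_* ℛ` is an isomorphism, given (R2a) and (R2b)
-/

set_option autoImplicit false
universe u
open CategoryTheory CategoryTheory.Limits AlgebraicGeometry

namespace Groth.Agent.H65.Rees

open Groth.Agent.H12.QCohAbelian (app_injective_of_mono)

section General

variable {X : Scheme.{u}}

/-- A morphism of modules which is surjective on sections over affine opens is an epimorphism. -/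
theorem epi_of_app_surjective {M N : X.Modules} (φ : M ⟶ N)
    (h : ∀ U : X.Opens, IsAffineOpen U → Function.Surjective (φ.app U)) : Epi φ := by
  apply Abelian.epi_of_cokernel_π_eq_zero
  refine Groth.Agent.Lead.IdealMul.hom_ext_affine _ _ (fun U hU s => ?_)
  obtain ⟨t, rfl⟩ := h U hU s
  have h1 : (φ ≫ cokernel.π φ).app U t = 0 := by
    rw [cokernel.condition]; rfl
  rw [Scheme.Modules.Hom.comp_app, ConcreteCategory.comp_apply] at h1
  rw [h1]; rfl

/-- A morphism of modules which is injective on sections over affine opens is a monomorphism. -/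
theorem mono_of_app_injective {M N : X.Modules} (φ : M ⟶ N)
    (h : ∀ U : X.Opens, IsAffineOpen U → Function.Injective (φ.app U)) : Mono φ := by
  apply Abelian.mono_of_kernel_ι_eq_zero
  refine Groth.Agent.Lead.IdealMul.hom_ext_affine _ _ (fun U hU s => ?_)
  apply h U hU
  have h1 : (kernel.ι φ ≫ φ).app U s = 0 := by
    rw [kernel.condition]; rfl
  rw [Scheme.Modules.Hom.comp_app, ConcreteCategory.comp_apply] at h1
  rw [h1]
  have h2 : (0 : kernel φ ⟶ M).app U s = 0 := rfl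
  rw [h2, map_zero]

lemma comp_app_apply {M N P : X.Modules} (a : M ⟶ N) (b : N ⟶ P) (U : X.Opens) (x : Γ(M, U)) :
    (a ≫ b).app U x = b.app U (a.app U x) := by
  rw [Scheme.Modules.Hom.comp_app, ConcreteCategory.comp_apply]

lemma app_sum {M N : X.Modules} (φ : M ⟶ N) (U : X.Opens) {κ : Type*} (T : Finset κ)
    (x : κ → Γ(M, U)) : φ.app U (∑ k ∈ T, x k) = ∑ k ∈ T, φ.app U (x k) :=
  map_sum (φ.app U).hom x T

end General

section Main

variable {A : Type u} [CommRing A] (I : Ideal A) (X : Scheme.{u})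
  [X.Over (Spec (CommRingCat.of A))] (F : X.Modules)

instance mono_idealMulι (J : Ideal A) : Mono (CohIII.idealMulι J F) :=
  inferInstanceAs (Mono (Limits.image.ι (Formal.smulFamily J F)))

/-- Elements of `I^k Γ(F, U)` are sections of `I^k F`. -/
lemma exists_of_mem_IkM (U : X.Opens) (k : ℕ) (x : Γ(F, U)) (hx : x ∈ IkM I X F U k) :
    ∃ n : Γ(CohIII.idealMul (I ^ k) F, U), (CohIII.idealMulι (I ^ k) F).app U n = x := by
  induction hx using AddSubgroup.closure_induction with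
  | mem x hx =>
    obtain ⟨a, ha, y, rfl⟩ := hx
    refine ⟨(Sigma.ι (fun _ : ↥(I ^ k) => F) ⟨a, ha⟩ ≫ idealMulπ F (I ^ k)).app U y, ?_⟩
    rw [← comp_app_apply, Category.assoc, ι_idealMulπ_ι]
  | zero => exact ⟨0, map_zero _⟩
  | add x y _ _ hx hy =>
    obtain ⟨n, rfl⟩ := hx
    obtain ⟨n', rfl⟩ := hy
    exact ⟨n + n', map_add _ _ _⟩
  | neg x _ hx =>
    obtain ⟨n, rfl⟩ := hx
    exact ⟨-n, map_neg _ _⟩

lemma ι_ΨS_jj (k : ℕ) :
    Sigma.ι (fun k : ℕ => CohIII.idealMul (I ^ k) F) k ≫ ΨS I X F ≫ jj I X F =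
      CohIII.idealMulι (I ^ k) F ≫ tk I X F k := by
  rw [ι_ΨS_assoc, Ψ_comp_jj]
  rfl

theorem epi_ΨS (h2b : R2b I X F) : Epi (ΨS I X F) := by
  apply epi_of_app_surjective
  intro U hU s
  obtain ⟨T, m, hm, hs⟩ := h2b U hU s
  choose! n hn using fun k (hk : k ∈ T) => exists_of_mem_IkM I X F U k (m k) (hm k hk)
  refine ⟨∑ k ∈ T, (Sigma.ι (fun k : ℕ => CohIII.idealMul (I ^ k) F) k).app U (n k), ?_⟩
  apply app_injective_of_mono (jj I X F) U
  rw [hs, app_sum, app_sum]
  refine Finset.sum_congr rfl fun k hk => ?_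
  rw [← hn k hk, ← comp_app_apply, ← comp_app_apply, ← comp_app_apply, ι_ΨS_jj]

theorem mono_ΨS (h2a : R2a I X F) : Mono (ΨS I X F) := by
  classical
  let G : ℕ → X.Modules := fun k => CohIII.idealMul (I ^ k) F
  let e : (∐ (G ∘ ⇑(Equiv.ulift.{u, 0} (α := ℕ)))) ≅ ∐ G := Sigma.reindex Equiv.ulift G
  suffices hm : Mono (e.hom ≫ ΨS I X F) by
    have h1 : ΨS I X F = e.inv ≫ (e.hom ≫ ΨS I X F) := by rw [Iso.inv_hom_id_assoc]
    rw [h1]
    infer_instance
  have hι : ∀ i : ULift.{u} ℕ, Sigma.ι (G ∘ ⇑(Equiv.ulift.{u, 0} (α := ℕ))) i ≫ e.hom ≫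
      ΨS I X F ≫ jj I X F = CohIII.idealMulι (I ^ i.down) F ≫ tk I X F i.down := by
    intro i
    have h1 : Sigma.ι (G ∘ ⇑(Equiv.ulift.{u, 0} (α := ℕ))) i ≫ e.hom = Sigma.ι G i.down :=
      Sigma.ι_reindex_hom Equiv.ulift G i
    rw [reassoc_of% h1]
    exact ι_ΨS_jj I X F i.down
  apply mono_of_app_injective
  intro U hU
  rw [← AddMonoidHom.coe_coe ((e.hom ≫ ΨS I X F).app U).hom]
  rw [injective_iff_map_eq_zero]
  intro y hy
  obtain ⟨hsurj, hinj⟩ := sections_sigma (G ∘ ⇑(Equiv.ulift.{u, 0} (α := ℕ))) U hU.isCompact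
  obtain ⟨S, t, rfl⟩ := hsurj y
  have hy' : (jj I X F).app U ((e.hom ≫ ΨS I X F).app U
      (∑ i ∈ S, (Sigma.ι (G ∘ ⇑(Equiv.ulift.{u, 0} (α := ℕ))) i).app U (t i))) = 0 := by
    have : (e.hom ≫ ΨS I X F).app U
        (∑ i ∈ S, (Sigma.ι (G ∘ ⇑(Equiv.ulift.{u, 0} (α := ℕ))) i).app U (t i)) = 0 := hy
    rw [this, map_zero]
  rw [app_sum, app_sum] at hy'
  have hy2 : ∑ i ∈ S, (tk I X F i.down).app U
      ((CohIII.idealMulι (I ^ i.down) F).app U (t i)) = 0 := by
    rw [← hy']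
    refine Finset.sum_congr rfl fun i _ => ?_
    rw [← comp_app_apply, ← comp_app_apply, ← comp_app_apply, ← hι i]
    simp only [Category.assoc]
    rfl
  -- reindex the sum over `ℕ`
  let m : ℕ → Γ(F, U) := fun k => (CohIII.idealMulι (I ^ k) F).app U (t ⟨k⟩)
  have hy3 : ∑ k ∈ S.image ULift.down, (tk I X F k).app U (m k) = 0 := by
    rw [Finset.sum_image (fun a _ b _ hab => ULift.down_injective hab)]
    exact hy2
  have hz := h2a U hU (S.image ULift.down) m hy3
  have ht : ∀ i ∈ S, t i = 0 := by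
    intro i hi
    have h1 : m i.down = 0 := hz i.down (Finset.mem_image_of_mem _ hi)
    have h2 : (CohIII.idealMulι (I ^ i.down) F).app U (t i) = 0 := h1
    apply app_injective_of_mono (CohIII.idealMulι (I ^ i.down) F) U
    exact h2.trans (map_zero ((CohIII.idealMulι (I ^ i.down) F).app U).hom).symm
  rw [Finset.sum_eq_zero]
  intro i hi
  rw [ht i hi, map_zero]

/-- **(R3)** `ΨS : ∐_k I^k F ⟶ g_* ℛ` is an isomorphism, given the section-level statements (R2). -/
theorem isIso_ΨS (h2a : R2a I X F) (h2b : R2b I X F) : IsIso (ΨS I X F) := by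
  have := mono_ΨS I X F h2a
  have := epi_ΨS I X F h2b
  exact isIso_of_mono_of_epi _

end Main

end Groth.Agent.H65.Rees
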