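import Groth.Agent.H65.Rees.R2a
import Groth.Agent.H65.Rees.Coh

/-!
# REES chain (R2b): sections of `g_* ℛ` over affine opens are `∑ t^k x_k`, `x_k ∈ I^k Γ(F, U)`
-/

set_option autoImplicit false
universe u
open CategoryTheory CategoryTheory.Limits AlgebraicGeometry

namespace Groth.Agent.H65.Rees

open Groth.Agent.H44
open Groth.Agent.H70.Rees (mon)

variable {A : Type u} [CommRing A] (I : Ideal A) (X : Scheme.{u})
  [X.Over (Spec (CommRingCat.of A))] (F : X.Modules)

/-- The additive submonoid of `Γ(amb, U)` generated by the `t^k x`, `x ∈ I^k Γ(F, U)`. -/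
noncomputable def Good (U : X.Opens) : AddSubmonoid Γ(amb I X F, U) :=
  AddSubmonoid.closure {y | ∃ k : ℕ, ∃ x ∈ IkM I X F U k, y = (tk I X F k).app U x}

/-- elements of `Good` have a finite representation. -/
theorem exists_rep_of_mem_Good (U : X.Opens) (y : Γ(amb I X F, U)) (hy : y ∈ Good I X F U) :
    ∃ (m : ℕ → Γ(F, U)) (T : Finset ℕ), (∀ k, m k ∈ IkM I X F U k) ∧ (∀ k, k ∉ T → m k = 0) ∧
      y = ∑ k ∈ T, (tk I X F k).app U (m k) := by
  induction hy using AddSubmonoid.closure_induction with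
  | mem y hy =>
    obtain ⟨k, x, hx, rfl⟩ := hy
    refine ⟨fun j => if j = k then x else 0, {k}, fun j => ?_, fun j hj => ?_, ?_⟩
    · by_cases hjk : j = k
      · subst hjk; simpa using hx
      · simp only [if_neg hjk]; exact zero_mem _
    · have : j ≠ k := fun h => hj (by rw [h]; exact Finset.mem_singleton_self k)
      simp only [if_neg this]
    · rw [Finset.sum_singleton]
      simp only [if_true]
  | zero => exact ⟨fun _ => 0, ∅, fun _ => zero_mem _, fun _ _ => rfl, by simp⟩
  | add y y' _ _ hy hy' =>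
    obtain ⟨m, T, hm, hmT, rfl⟩ := hy
    obtain ⟨m', T', hm', hmT', rfl⟩ := hy'
    refine ⟨fun k => m k + m' k, T ∪ T', fun k => add_mem (hm k) (hm' k), fun k hk => ?_, ?_⟩
    · rw [Finset.mem_union, not_or] at hk
      simp only [hmT k hk.1, hmT' k hk.2, add_zero]
    · have h1 : ∑ k ∈ T, (tk I X F k).app U (m k) = ∑ k ∈ T ∪ T', (tk I X F k).app U (m k) := by
        apply Finset.sum_subset Finset.subset_union_left
        intro k _ hk
        rw [hmT k hk, map_zero]
      have h2 : ∑ k ∈ T', (tk I X F k).app U (m' k) =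
          ∑ k ∈ T ∪ T', (tk I X F k).app U (m' k) := by
        apply Finset.sum_subset Finset.subset_union_right
        intro k _ hk
        rw [hmT' k hk, map_zero]
      rw [h1, h2, ← Finset.sum_add_distrib]
      apply Finset.sum_congr rfl
      intro k _
      rw [map_add]

/-- the key computation: `η((a t^k) • g^* m) = t^k (a m)`. -/
lemma η_mon_smul (U : X.Opens) (k : ℕ) (a : ↥(I ^ k)) (m : Γ(F, U)) :
    (η I X F).app (g I X ⁻¹ᵁ U)
      (bR (g I X) (XS I X ↘ Spec (CommRingCat.of ↥(reesAlgebra I))) U (mon I k a) •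
        pullSectLE (g I X) F U (g I X ⁻¹ᵁ U) le_rfl m) =
    (tk I X F k).app U ((Formal.smulMod A F (a : A)).app U m) := by
  rw [Scheme.Modules.Hom.app_smul, pullSectLE_self]
  have h2 := congrArg (fun φ => φ.app U ((uu I X F).app U m)) (ρs_mon I X F k a)
  have h3 := congrArg (fun φ => φ.app U m)
    (Groth.Agent.H44.smulMod_naturality A (uu I X F) (a : A))
  simp only [Scheme.Modules.Hom.comp_app, ConcreteCategory.comp_apply] at h2 h3
  unfold tk
  rw [Scheme.Modules.Hom.comp_app, ConcreteCategory.comp_apply, h3, ← h2]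
  rfl

/-- `Good`, seen in `Γ(h_* N, g⁻¹U)`. -/
noncomputable def GoodV (U : X.Opens) :
    AddSubmonoid Γ((Scheme.Modules.pushforward (h I X)).obj (NF I X F), g I X ⁻¹ᵁ U) :=
  Good I X F U

theorem η_mem_GoodV [F.IsQuasicoherent] {U : X.Opens} (hU : IsAffineOpen U)
    (w : Γ(GF I X F, g I X ⁻¹ᵁ U)) :
    (η I X F).app (g I X ⁻¹ᵁ U) w ∈ GoodV I X F U := by
  have hV : IsAffineOpen (g I X ⁻¹ᵁ U) := hU.preimage (g I X)
  induction mem_closure_smul_pullSectLE (g I X) F hV hU le_rfl w
    using AddSubmonoid.closure_induction with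
  | mem w hw =>
    obtain ⟨β, m, rfl⟩ := hw
    induction mem_closure_sections (algebraMap A ↥(reesAlgebra I)) (isPullback_g I X) hU β
      using AddSubmonoid.closure_induction with
    | mem β hβ =>
      obtain ⟨γ, s', rfl⟩ := hβ
      rw [mul_comm, mul_smul]
      have h1 : cR (g I X) U γ • pullSectLE (g I X) F U (g I X ⁻¹ᵁ U) le_rfl m =
          pullSectLE (g I X) F U (g I X ⁻¹ᵁ U) le_rfl (γ • m) :=
        (pullSectLE_smul (g I X) F U (g I X ⁻¹ᵁ U) le_rfl γ m).symm
      rw [h1, Groth.Agent.H70.Rees.eq_sum_mon I s', map_sum, Finset.sum_smul, map_sum]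
      apply sum_mem
      intro e _
      rw [η_mon_smul]
      apply AddSubmonoid.subset_closure
      exact ⟨e, _, AddSubgroup.subset_closure ⟨_, s'.2 e, _, rfl⟩, rfl⟩
    | zero => rw [zero_smul, map_zero]; exact zero_mem _
    | add β β' _ _ hβ hβ' => rw [add_smul, map_add]; exact add_mem hβ hβ'
  | zero => rw [map_zero]; exact zero_mem _
  | add w w' _ _ hw hw' => rw [map_add]; exact add_mem hw hw'

/-- **(R2b)** -/
theorem r2b [F.IsQuasicoherent] : R2b I X F := by
  intro U hU s
  have hV : IsAffineOpen (g I X ⁻¹ᵁ U) := hU.preimage (g I X)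
  obtain ⟨w, hw⟩ := Groth.Agent.H12.QCohEpi.app_surjective_of_epi (ℛπ I X F) hV
    (show Γ(ℛ I X F, g I X ⁻¹ᵁ U) from s)
  have h1 : (jj I X F).app U s = (η I X F).app (g I X ⁻¹ᵁ U) w := by
    have h2 := congrArg (fun φ => φ.app (g I X ⁻¹ᵁ U) w) (ℛπ_ι I X F)
    simp only [Scheme.Modules.Hom.comp_app, ConcreteCategory.comp_apply] at h2
    rw [← h2, hw]
    rfl
  obtain ⟨m, T, hm, -, hy⟩ := exists_rep_of_mem_Good I X F U _ (η_mem_GoodV I X F hU w)
  refine ⟨T, m, fun k _ => hm k, ?_⟩
  rw [h1]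
  exact hy

end Groth.Agent.H65.Rees
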