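import Groth.Agent.H65.Rees.Iso
import Groth.Agent.H65.Rees.R2b

/-!
# REES chain (R3), final form: `ΨS : ∐_k I^k F ⟶ g_* ℛ` is an isomorphism for `F` quasi-coherent
-/

set_option autoImplicit false
universe u
open CategoryTheory CategoryTheory.Limits AlgebraicGeometry

namespace Groth.Agent.H65.Rees

variable {A : Type u} [CommRing A] (I : Ideal A) (X : Scheme.{u})
  [X.Over (Spec (CommRingCat.of A))] (F : X.Modules)

/-- **(R3)** For `F` quasi-coherent, `ΨS : ∐_k I^k F ⟶ g_* ℛ` is an isomorphism. -/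
instance isIso_ΨS_of_isQuasicoherent [F.IsQuasicoherent] : IsIso (ΨS I X F) :=
  isIso_ΨS I X F (r2a I X F) (r2b I X F)

end Groth.Agent.H65.Rees
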