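import Groth.Agent.H65.Rees.Smul

/-!
# REES chain (R3): the comparison maps `Ψ_k : I^k F ⟶ g_* ℛ`

* `idealMulCongr F (h : J = J') : idealMul J F ≅ idealMul J' F` (transport along an equality of ideals),
* `cK I X F k : idealMul (I^k) F ⟶ amb` the map `I^k F ↪ F ⟶ F[t] --t^k--> F[t]`,
* `Ψ I X F k : idealMul (I^k) F ⟶ g_* ℛ` with `Ψ_k ≫ jj = cK k` (`Ψ_comp_jj`),
* `Ψ_equivariant`: `Ψ_k ≫ g_*(a t^r ·) = mulMap a ≫ (transport) ≫ Ψ_{k+r}` for `a ∈ I^r`,
* `ΨS : ∐_k idealMul (I^k) F ⟶ g_* ℛ` and its equivariance `ΨS_equivariant`.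
-/

set_option autoImplicit false
universe u
open CategoryTheory CategoryTheory.Limits AlgebraicGeometry

namespace Groth.Agent.H65.Rees

open Groth.Agent.H70.Rees (mon)

section Congr

variable {A : Type u} [CommRing A] {X : Scheme.{u}} [X.Over (Spec (CommRingCat.of A))]
  (F : X.Modules)

/-- Transport of `J · F` along an equality of ideals. -/
noncomputable def idealMulCongr {J J' : Ideal A} (e : J = J') :
    CohIII.idealMul J F ≅ CohIII.idealMul J' F :=
  eqToIso (by rw [e])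

@[reassoc (attr := simp)]
lemma idealMulCongr_hom_ι {J J' : Ideal A} (e : J = J') :
    (idealMulCongr F e).hom ≫ CohIII.idealMulι J' F = CohIII.idealMulι J F := by
  subst e
  simp [idealMulCongr]

/-- The projection `∐_{b ∈ J} F ⟶ J · F`. -/
noncomputable def idealMulπ (J : Ideal A) : (∐ fun _ : J => F) ⟶ CohIII.idealMul J F :=
  Limits.factorThruImage (Formal.smulFamily J F)

instance epi_idealMulπ (J : Ideal A) : Epi (idealMulπ F J) :=
  inferInstanceAs (Epi (Limits.factorThruImage (Formal.smulFamily J F)))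

@[reassoc (attr := simp)]
lemma idealMulπ_ι (J : Ideal A) :
    idealMulπ F J ≫ CohIII.idealMulι J F = Formal.smulFamily J F := Limits.image.fac _

@[reassoc]
lemma ι_idealMulπ_ι (J : Ideal A) (b : J) :
    Sigma.ι (fun _ : J => F) b ≫ idealMulπ F J ≫ CohIII.idealMulι J F =
      Formal.smulMod A F (b : A) := by
  rw [idealMulπ_ι]
  simp [Formal.smulFamily]

/-- `mulMap a ≫ ι = ι ≫ (a ·)`. -/
@[reassoc]
lemma mulMap_ι (I J : Ideal A) (a : I) :
    CohIII.mulMap I J F a ≫ CohIII.idealMulι (I * J) F =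
      CohIII.idealMulι J F ≫ Formal.smulMod A F (a : A) :=
  Limits.image.map_ι (CohIII.mulSq I J F a)

end Congr

section Psi

variable {A : Type u} [CommRing A] (I : Ideal A) (X : Scheme.{u})
  [X.Over (Spec (CommRingCat.of A))] (F : X.Modules)

/-- `I^k F ↪ F ⟶ F[t] --t^k--> F[t]`. -/
noncomputable def cK (k : ℕ) : CohIII.idealMul (I ^ k) F ⟶ amb I X F :=
  CohIII.idealMulι (I ^ k) F ≫ uu I X F ≫ τpow I X F k

/-- The map `F ⟶ g_* ℛ`, `x ↦ (a t^k) • [x]`, for `a ∈ I^k`. -/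
noncomputable def φka (k : ℕ) (a : ↥(I ^ k)) :
    F ⟶ (Scheme.Modules.pushforward (g I X)).obj (ℛ I X F) :=
  ug I X F ≫ (Scheme.Modules.pushforward (g I X)).map
    (ℛπ I X F ≫ Formal.smulMod ↥(reesAlgebra I) (ℛ I X F) (mon I k a))

lemma φka_comp_jj (k : ℕ) (a : ↥(I ^ k)) :
    φka I X F k a ≫ jj I X F = Formal.smulMod A F (a : A) ≫ uu I X F ≫ τpow I X F k := by
  have h1 : (Scheme.Modules.pushforward (g I X)).map
      (ℛπ I X F ≫ Formal.smulMod ↥(reesAlgebra I) (ℛ I X F) (mon I k a)) ≫ jj I X F =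
      (Scheme.Modules.pushforward (g I X)).map (η I X F) ≫ ρs I X F (mon I k a) := by
    rw [Functor.map_comp, Category.assoc, map_smulMod_ℛ_jj, ← Category.assoc]
    congr 1
    unfold jj
    rw [← Functor.map_comp, ℛπ_ι]
  have h2 := Groth.Agent.H44.smulMod_naturality A (uu I X F) (a : A)
  rw [φka, Category.assoc, h1, ρs_mon, ← Category.assoc, ← Category.assoc (Formal.smulMod A F _),
    h2, Category.assoc]
  rfl

lemma cK_comp_cokernel (k : ℕ) : cK I X F k ≫ cokernel.π (jj I X F) = 0 := by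
  rw [← cancel_epi (idealMulπ F (I ^ k)), comp_zero]
  apply Sigma.hom_ext
  intro a
  rw [comp_zero, cK]
  have h1 : Sigma.ι (fun _ : ↥(I ^ k) => F) a ≫ idealMulπ F (I ^ k) ≫
      (CohIII.idealMulι (I ^ k) F ≫ uu I X F ≫ τpow I X F k) ≫ cokernel.π (jj I X F) =
      (Formal.smulMod A F (a : A) ≫ uu I X F ≫ τpow I X F k) ≫ cokernel.π (jj I X F) := by
    rw [← ι_idealMulπ_ι F (I ^ k) a]
    simp only [Category.assoc]
  rw [h1, ← φka_comp_jj, Category.assoc, cokernel.condition, comp_zero]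

/-- The comparison map `Ψ_k : I^k F ⟶ g_* ℛ`. -/
noncomputable def Ψ (k : ℕ) :
    CohIII.idealMul (I ^ k) F ⟶ (Scheme.Modules.pushforward (g I X)).obj (ℛ I X F) :=
  Abelian.monoLift (jj I X F) (cK I X F k) (cK_comp_cokernel I X F k)

@[reassoc (attr := simp)]
lemma Ψ_comp_jj (k : ℕ) : Ψ I X F k ≫ jj I X F = cK I X F k :=
  Abelian.monoLift_comp _ _ _

lemma pow_mul_pow_eq (r k : ℕ) : I ^ r * I ^ k = I ^ (k + r) := by
  rw [← pow_add, add_comm]

/-- **Equivariance.** For `a ∈ I^r`, multiplication by the monomial `a t^r ∈ S` on `g_* ℛ`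
corresponds to `mulMap a : I^k F ⟶ (I^r I^k) F = I^(k+r) F`. -/
theorem Ψ_equivariant (k r : ℕ) (a : ↥(I ^ r)) :
    Ψ I X F k ≫ (Scheme.Modules.pushforward (g I X)).map
        (Formal.smulMod ↥(reesAlgebra I) (ℛ I X F) (mon I r a)) =
      CohIII.mulMap (I ^ r) (I ^ k) F a ≫ (idealMulCongr F (pow_mul_pow_eq I r k)).hom ≫
        Ψ I X F (k + r) := by
  rw [← cancel_mono (jj I X F)]
  simp only [Category.assoc]
  rw [map_smulMod_ℛ_jj, Ψ_comp_jj_assoc, Ψ_comp_jj, ρs_mon, cK, cK, idealMulCongr_hom_ι_assoc,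
    mulMap_ι_assoc, τpow_add]
  simp only [Category.assoc]
  congr 1
  have h2 := Groth.Agent.H44.smulMod_naturality A (uu I X F ≫ τpow I X F k) (a : A)
  simp only [Category.assoc] at h2
  rw [reassoc_of% h2]

/-- The total comparison map `∐_k I^k F ⟶ g_* ℛ`. -/
noncomputable def ΨS : (∐ fun k : ℕ => CohIII.idealMul (I ^ k) F) ⟶
    (Scheme.Modules.pushforward (g I X)).obj (ℛ I X F) :=
  Sigma.desc (Ψ I X F)

@[reassoc (attr := simp)]
lemma ι_ΨS (k : ℕ) :
    Sigma.ι (fun k : ℕ => CohIII.idealMul (I ^ k) F) k ≫ ΨS I X F = Ψ I X F k := by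
  simp [ΨS]

/-- The degree-`r` shift on `∐_k I^k F` given by multiplication by `a ∈ I^r`. -/
noncomputable def shiftS (r : ℕ) (a : ↥(I ^ r)) :
    (∐ fun k : ℕ => CohIII.idealMul (I ^ k) F) ⟶ ∐ fun k : ℕ => CohIII.idealMul (I ^ k) F :=
  Sigma.desc fun k => CohIII.mulMap (I ^ r) (I ^ k) F a ≫
    (idealMulCongr F (pow_mul_pow_eq I r k)).hom ≫
      Sigma.ι (fun k : ℕ => CohIII.idealMul (I ^ k) F) (k + r)

theorem ΨS_equivariant (r : ℕ) (a : ↥(I ^ r)) :
    ΨS I X F ≫ (Scheme.Modules.pushforward (g I X)).map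
        (Formal.smulMod ↥(reesAlgebra I) (ℛ I X F) (mon I r a)) =
      shiftS I X F r a ≫ ΨS I X F := by
  apply Sigma.hom_ext
  intro k
  rw [ι_ΨS_assoc, Ψ_equivariant, shiftS, Sigma.ι_desc_assoc]
  simp only [Category.assoc, ι_ΨS]

end Psi

end Groth.Agent.H65.Rees
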