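import Groth.Agent.H44.PullUnit

/-!
# REES chain (R2): generic facts on sections of a pullback over affine opens

For `f : X ⟶ Y`, `F` quasi-coherent on `Y`, `V ⊆ Y` affine and `U ⊆ f⁻¹V` affine:
* `mem_closure_smul_pullSectLE`: `Γ(f^*F, U)` is generated by the `β • f^*(m)`;
* `exists_functional`: a `Γ(Y,V)`-linear functional `Λ` on `Γ(X,U)` induces an additive map
  `Γ(f^*F, U) → Γ(F, V)`, `β • f^*(m) ↦ Λ β • m`.
-/

set_option autoImplicit false
universe u
open CategoryTheory AlgebraicGeometry Scheme.Modules TopologicalSpace Opposite TensorProduct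

namespace Groth.Agent.H65.Rees

open Groth.Agent.H44

variable {X Y : Scheme.{u}} (f : X ⟶ Y) (F : Y.Modules) [F.IsQuasicoherent]
  {U : X.Opens} {V : Y.Opens} (hU : IsAffineOpen U) (hV : IsAffineOpen V) (e : U ≤ f ⁻¹ᵁ V)

include hU hV in
theorem mem_closure_smul_pullSectLE (x : Γ((pullback f).obj F, U)) :
    x ∈ AddSubmonoid.closure {y : Γ((pullback f).obj F, U) |
      ∃ (β : Γ(X, U)) (m : Γ(F, V)), y = β • pullSectLE f F V U e m} := by
  letI := (f.appLE V U e).hom.toAlgebra
  set E := pullbackSectionsEquiv f F hU hV e with hE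
  have key : ∀ z : Γ(X, U) ⊗[Γ(Y, V)] Γ(F, V), E.symm z ∈ AddSubmonoid.closure
      {y : Γ((pullback f).obj F, U) | ∃ (β : Γ(X, U)) (m : Γ(F, V)),
        y = β • pullSectLE f F V U e m} := by
    intro z
    induction z using TensorProduct.induction_on with
    | zero => rw [map_zero]; exact zero_mem _
    | tmul β m =>
      apply AddSubmonoid.subset_closure
      refine ⟨β, m, ?_⟩
      rw [LinearEquiv.symm_apply_eq, LinearEquiv.map_smul, pullbackSectionsEquiv_pullSectLE,
        TensorProduct.smul_tmul', smul_eq_mul, mul_one]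
    | add z z' hz hz' => rw [map_add]; exact add_mem hz hz'
  obtain ⟨z, rfl⟩ := E.symm.surjective x
  exact key z

include hU hV in
theorem exists_functional
    (Λ : letI := (f.appLE V U e).hom.toAlgebra; Γ(X, U) →ₗ[Γ(Y, V)] Γ(Y, V)) :
    ∃ c : Γ((pullback f).obj F, U) →+ Γ(F, V), ∀ (β : Γ(X, U)) (m : Γ(F, V)),
      c (β • pullSectLE f F V U e m) = Λ β • m := by
  letI := (f.appLE V U e).hom.toAlgebra
  set E := pullbackSectionsEquiv f F hU hV e with hE
  let ev : Γ(X, U) ⊗[Γ(Y, V)] Γ(F, V) →ₗ[Γ(Y, V)] Γ(F, V) :=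
    (TensorProduct.lid Γ(Y, V) Γ(F, V)).toLinearMap ∘ₗ LinearMap.rTensor Γ(F, V) Λ
  refine ⟨ev.toAddMonoidHom.comp E.toLinearMap.toAddMonoidHom, fun β m => ?_⟩
  change ev (E (β • pullSectLE f F V U e m)) = _
  rw [LinearEquiv.map_smul, pullbackSectionsEquiv_pullSectLE, TensorProduct.smul_tmul',
    smul_eq_mul, mul_one]
  simp only [ev, LinearMap.coe_comp, LinearEquiv.coe_coe, Function.comp_apply,
    LinearMap.rTensor_tmul, TensorProduct.lid_tmul]

end Groth.Agent.H65.Rees
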