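import Groth.Agent.H22.ProjBaseChange

/-!
# REES chain (R2): sections of the structure sheaf of a base change over affine opens

For a pullback square `P = W ×_{Spec R} Spec R'` and `U ⊆ W` affine open,
`Γ(P, pr₁⁻¹U) = Γ(W, U) ⊗_R R'` (a pushout square of commutative rings, with the corners `R`, `R'`
instead of `Γ(Spec R)`, `Γ(Spec R')`).
-/

set_option autoImplicit false
universe u
open CategoryTheory CategoryTheory.Limits AlgebraicGeometry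

namespace Groth.Agent.H65.Rees

section Ring

variable {P W : Scheme.{u}} {R R' : Type u} [CommRing R] [CommRing R'] (φ : R →+* R')
  (pr₁ : P ⟶ W) (pr₂ : P ⟶ Spec (CommRingCat.of R')) (w : W ⟶ Spec (CommRingCat.of R))

/-- `R → Γ(W, U)`. -/
noncomputable def aR (U : W.Opens) : R →+* Γ(W, U) :=
  (w.appLE ⊤ U le_top).hom.comp (Scheme.ΓSpecIso (CommRingCat.of R)).inv.hom

/-- `R' → Γ(P, pr₁⁻¹U)`. -/
noncomputable def bR (U : W.Opens) : R' →+* Γ(P, pr₁ ⁻¹ᵁ U) :=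
  (pr₂.appLE ⊤ (pr₁ ⁻¹ᵁ U) le_top).hom.comp (Scheme.ΓSpecIso (CommRingCat.of R')).inv.hom

/-- `Γ(W, U) → Γ(P, pr₁⁻¹U)`. -/
noncomputable def cR (U : W.Opens) : Γ(W, U) →+* Γ(P, pr₁ ⁻¹ᵁ U) :=
  (pr₁.appLE U (pr₁ ⁻¹ᵁ U) le_rfl).hom

variable {pr₁ pr₂ w}

theorem isPushout_sections (H : IsPullback pr₁ pr₂ w (Spec.map (CommRingCat.ofHom φ)))
    {U : W.Opens} (hU : IsAffineOpen U) :
    IsPushout (CommRingCat.ofHom φ) (CommRingCat.ofHom (aR w U))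
      (CommRingCat.ofHom (bR pr₁ pr₂ U)) (CommRingCat.ofHom (cR pr₁ U)) := by
  have h0 := Groth.Agent.H22.ProjBaseChange.isPushout_affine H hU
  refine h0.of_iso (Scheme.ΓSpecIso (CommRingCat.of R)) (Scheme.ΓSpecIso (CommRingCat.of R'))
    (Iso.refl _) (Iso.refl _) ?_ ?_ ?_ ?_
  · have : (Spec.map (CommRingCat.ofHom φ)).appLE ⊤ ⊤ le_top =
        (Spec.map (CommRingCat.ofHom φ)).appTop := by
      simp [Scheme.Hom.appLE]
    rw [this]
    exact Scheme.ΓSpecIso_naturality (CommRingCat.ofHom φ)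
  · rw [Iso.refl_hom, Category.comp_id]
    change _ = (Scheme.ΓSpecIso (CommRingCat.of R)).hom ≫
      ((Scheme.ΓSpecIso (CommRingCat.of R)).inv ≫ w.appLE ⊤ U le_top)
    rw [Iso.hom_inv_id_assoc]
  · rw [Iso.refl_hom, Category.comp_id]
    change _ = (Scheme.ΓSpecIso (CommRingCat.of R')).hom ≫
      ((Scheme.ΓSpecIso (CommRingCat.of R')).inv ≫ pr₂.appLE ⊤ (pr₁ ⁻¹ᵁ U) le_top)
    rw [Iso.hom_inv_id_assoc]
  · rw [Iso.refl_hom, Iso.refl_hom, Category.comp_id, Category.id_comp]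
    rfl

/-- every section over `pr₁⁻¹U` is a sum of products `c γ * b β`. -/
theorem mem_closure_sections (H : IsPullback pr₁ pr₂ w (Spec.map (CommRingCat.ofHom φ)))
    {U : W.Opens} (hU : IsAffineOpen U) (d : Γ(P, pr₁ ⁻¹ᵁ U)) :
    d ∈ AddSubmonoid.closure {x : Γ(P, pr₁ ⁻¹ᵁ U) | ∃ γ β, x = cR pr₁ U γ * bR pr₁ pr₂ U β} :=
  Groth.Agent.H22.PushoutLin.mem_closure φ (aR w U) (bR pr₁ pr₂ U) (cR pr₁ U)
    (isPushout_sections φ H hU) d

/-- An `R`-linear functional `l : R' → R` induces a `Γ(W,U)`-linear functional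
`Γ(P, pr₁⁻¹U) → Γ(W, U)`. -/
theorem exists_lin_sections (H : IsPullback pr₁ pr₂ w (Spec.map (CommRingCat.ofHom φ)))
    {U : W.Opens} (hU : IsAffineOpen U) (l : R' →+ R) (hl : ∀ α β, l (φ α * β) = α * l β) :
    ∃ Λ : (letI := (pr₁.appLE U (pr₁ ⁻¹ᵁ U) le_rfl).hom.toAlgebra;
        Γ(P, pr₁ ⁻¹ᵁ U) →ₗ[Γ(W, U)] Γ(W, U)),
      ∀ γ β, Λ (cR pr₁ U γ * bR pr₁ pr₂ U β) = γ * aR w U (l β) := by
  letI := (pr₁.appLE U (pr₁ ⁻¹ᵁ U) le_rfl).hom.toAlgebra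
  obtain ⟨Λ, hΛ⟩ := Groth.Agent.H22.PushoutLin.exists_lin φ (aR w U) (bR pr₁ pr₂ U) (cR pr₁ U)
    (isPushout_sections φ H hU) l hl
  have hlin : ∀ (γ' : Γ(W, U)) (d : Γ(P, pr₁ ⁻¹ᵁ U)), Λ (cR pr₁ U γ' * d) = γ' * Λ d := by
    intro γ' d
    induction mem_closure_sections φ H hU d using AddSubmonoid.closure_induction with
    | mem x hx =>
      obtain ⟨γ, β, rfl⟩ := hx
      rw [← mul_assoc, ← map_mul, hΛ, hΛ, mul_assoc]
    | zero => simp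
    | add x y _ _ hx hy => rw [mul_add, map_add, map_add, hx, hy, mul_add]
  refine ⟨{ toFun := Λ, map_add' := Λ.map_add, map_smul' := fun γ' d => ?_ }, hΛ⟩
  rw [RingHom.id_apply, smul_eq_mul, Algebra.smul_def]
  exact hlin γ' d

end Ring

end Groth.Agent.H65.Rees
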