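import Groth.Agent.H65.Rees.Spec
import Groth.Agent.H65.Rees.R2Gen
import Groth.Agent.H65.Rees.R2Ring
import Groth.Agent.H70.Rees.IdealMulSections

/-!
# REES chain (R2a): independence of the powers of `t` in `Γ(amb, U)`
-/

set_option autoImplicit false
universe u
open CategoryTheory CategoryTheory.Limits AlgebraicGeometry

namespace Groth.Agent.H65.Rees

open Groth.Agent.H44

variable {A : Type u} [CommRing A] (I : Ideal A) (X : Scheme.{u})
  [X.Over (Spec (CommRingCat.of A))] (F : X.Modules)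

lemma isPullback_g : IsPullback (g I X) (XS I X ↘ Spec (CommRingCat.of ↥(reesAlgebra I)))
    (X ↘ Spec (CommRingCat.of A)) (Spec.map (CommRingCat.ofHom (algebraMap A ↥(reesAlgebra I)))) :=
  IsPullback.of_hasPullback (X ↘ Spec (CommRingCat.of A)) (σ I)

lemma isPullback_h : IsPullback (h I X) (XT I X ↘ Spec (CommRingCat.of (Polynomial A)))
    (XS I X ↘ Spec (CommRingCat.of ↥(reesAlgebra I))) (ρ I) :=
  IsPullback.of_hasPullback (XS I X ↘ Spec (CommRingCat.of ↥(reesAlgebra I))) (ρ I)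

lemma ρ_comp_σ : ρ I ≫ σ I = Spec.map (CommRingCat.ofHom (algebraMap A (Polynomial A))) := by
  unfold ρ σ
  rw [← Spec.map_comp]
  rfl

lemma isPullback_hg : IsPullback (h I X ≫ g I X) (XT I X ↘ Spec (CommRingCat.of (Polynomial A)))
    (X ↘ Spec (CommRingCat.of A)) (Spec.map (CommRingCat.ofHom (algebraMap A (Polynomial A)))) := by
  rw [← ρ_comp_σ]
  exact (isPullback_h I X).paste_horiz (isPullback_g I X)

/-- `Φ : h^* g^* F ≅ (h ≫ g)^* F`. -/
noncomputable def Φ : NF I X F ⟶ (Scheme.Modules.pullback (h I X ≫ g I X)).obj F :=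
  (Scheme.Modules.pullbackComp (h I X) (g I X)).hom.app F

/-- the constants: `Φ (u m) = (h ≫ g)^* m`. -/
lemma Φ_uu (U : X.Opens) (m : Γ(F, U)) :
    (Φ I X F).app ((h I X ≫ g I X) ⁻¹ᵁ U) ((uu I X F).app U m) =
      pullSectLE (h I X ≫ g I X) F U ((h I X ≫ g I X) ⁻¹ᵁ U) le_rfl m := by
  have h1 := pullbackComp_hom_app (h I X) (g I X) F U (g I X ⁻¹ᵁ U)
    (h I X ⁻¹ᵁ (g I X ⁻¹ᵁ U)) le_rfl le_rfl m
  rw [pullSectLE_self, pullSectLE_self] at h1
  exact h1

/-- the image of `p ∈ A[t]` in `Γ(X_T, W)`. -/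
lemma tk_app (U : X.Opens) (j : ℕ) (m : Γ(F, U)) :
    (show Γ(NF I X F, (h I X ≫ g I X) ⁻¹ᵁ U) from (tk I X F j).app U m) =
      Groth.Agent.H70.Rees.toSections (A := Polynomial A) (XT I X) ((h I X ≫ g I X) ⁻¹ᵁ U)
        (Polynomial.X ^ j) •
          (show Γ(NF I X F, (h I X ≫ g I X) ⁻¹ᵁ U) from (uu I X F).app U m) := by
  unfold tk
  rw [τpow_eq]
  rfl

instance isAffineHom_hg : IsAffineHom (h I X ≫ g I X) := inferInstance

/-- `toSections` is `bR`. -/
lemma toSections_eq_bR (U : X.Opens) (p : Polynomial A) :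
    Groth.Agent.H70.Rees.toSections (A := Polynomial A) (XT I X) ((h I X ≫ g I X) ⁻¹ᵁ U) p =
      bR (h I X ≫ g I X) (XT I X ↘ Spec (CommRingCat.of (Polynomial A))) U p := rfl

/-- the `k`-th coefficient functional on `Γ(amb, U)`. -/
theorem exists_coeff [F.IsQuasicoherent] {U : X.Opens} (hU : IsAffineOpen U) (k : ℕ) :
    ∃ c : Γ(amb I X F, U) →+ Γ(F, U), ∀ (j : ℕ) (m : Γ(F, U)),
      c ((tk I X F j).app U m) = if j = k then m else 0 := by
  have hW : IsAffineOpen ((h I X ≫ g I X) ⁻¹ᵁ U) := hU.preimage (h I X ≫ g I X)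
  obtain ⟨Λ, hΛ⟩ := exists_lin_sections (algebraMap A (Polynomial A)) (isPullback_hg I X) hU
    (Polynomial.lcoeff A k).toAddMonoidHom (fun α β => by
      change (algebraMap A (Polynomial A) α * β).coeff k = α * β.coeff k
      rw [Polynomial.algebraMap_apply, Algebra.algebraMap_self, RingHom.id_apply,
        Polynomial.coeff_C_mul])
  obtain ⟨c, hc⟩ := exists_functional (h I X ≫ g I X) F hW hU le_rfl Λ
  refine ⟨c.comp (AddMonoidHom.mk' (fun x : Γ(NF I X F, (h I X ≫ g I X) ⁻¹ᵁ U) =>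
    (Φ I X F).app ((h I X ≫ g I X) ⁻¹ᵁ U) x) (fun x y => map_add _ x y)), fun j m => ?_⟩
  change c ((Φ I X F).app ((h I X ≫ g I X) ⁻¹ᵁ U)
    (show Γ(NF I X F, (h I X ≫ g I X) ⁻¹ᵁ U) from (tk I X F j).app U m)) = _
  rw [tk_app, Scheme.Modules.Hom.app_smul]
  erw [Φ_uu]
  rw [hc, toSections_eq_bR]
  have h1 : bR (h I X ≫ g I X) (XT I X ↘ Spec (CommRingCat.of (Polynomial A))) U
      (Polynomial.X ^ j) = cR (h I X ≫ g I X) U 1 *
        bR (h I X ≫ g I X) (XT I X ↘ Spec (CommRingCat.of (Polynomial A))) U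
          (Polynomial.X ^ j) := by
    rw [map_one, one_mul]
  rw [h1, hΛ, one_mul]
  change aR (X ↘ Spec (CommRingCat.of A)) U ((Polynomial.X ^ j : Polynomial A).coeff k) • m = _
  rw [Polynomial.coeff_X_pow]
  by_cases hjk : j = k
  · subst hjk
    rw [if_pos rfl, if_pos rfl, map_one, one_smul]
  · rw [if_neg (Ne.symm hjk), if_neg hjk, map_zero, zero_smul]

/-- **(R2a)** -/
theorem r2a [F.IsQuasicoherent] : R2a I X F := by
  intro U hU T m hsum k hk
  obtain ⟨c, hc⟩ := exists_coeff I X F hU k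
  have h1 := congrArg c hsum
  rw [map_sum, map_zero] at h1
  simp only [hc] at h1
  rw [Finset.sum_ite_eq' T k m, if_pos hk] at h1
  exact h1

end Groth.Agent.H65.Rees
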