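import Mathlib
import Groth.Prelude.Def_ega3
import Groth.Agent.H44.SmulModQuot
import Groth.Agent.H30.SmulMod
import Groth.Agent.H70.Rees.Graded

/-!
# REES chain (S2435): common geometric setup

`A` a ring, `I` an ideal, `S = reesAlgebra I ⊆ A[t]`, `X` a scheme over `Spec A`, `F` an `O_X`-module.

* `XS I X = X ×_A Spec S`, `g I X : XS I X ⟶ X`; `XS I X` is a scheme over `Spec S`.
* `XT I X = XS ×_S Spec A[t]`, `h I X : XT I X ⟶ XS I X`; `XT I X` is a scheme over `Spec A[t]`.
* `GF I X F = g^* F`, `NF I X F = h^* g^* F`, `η I X F : g^*F ⟶ h_* h^* g^* F` the unit,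
  `ℛ I X F = image η` (the Rees module sheaf `⊕ I^k F t^k` on `XS`), `ℛι`, `ℛπ`.
* `amb I X F = g_* h_* h^* g^* F` (the ambient module `F[t]`), `u : F ⟶ amb`, `τ : amb ⟶ amb`
  multiplication by `t`, `j : g_* ℛ ⟶ amb` the (mono) inclusion.
-/

set_option autoImplicit false
universe u
open CategoryTheory CategoryTheory.Limits AlgebraicGeometry

namespace Groth.Agent.H65.Rees

variable {A : Type u} [CommRing A] (I : Ideal A) (X : Scheme.{u})
  [X.Over (Spec (CommRingCat.of A))]

/-- `Spec S ⟶ Spec A` for `S = reesAlgebra I`. -/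
noncomputable def σ : Spec (CommRingCat.of ↥(reesAlgebra I)) ⟶ Spec (CommRingCat.of A) :=
  Spec.map (CommRingCat.ofHom (algebraMap A ↥(reesAlgebra I)))

/-- `Spec A[t] ⟶ Spec S` induced by the inclusion `S ⊆ A[t]`. -/
noncomputable def ρ : Spec (CommRingCat.of (Polynomial A)) ⟶
    Spec (CommRingCat.of ↥(reesAlgebra I)) :=
  Spec.map (CommRingCat.ofHom (reesAlgebra I).val.toRingHom)

instance isAffineHom_σ : IsAffineHom (σ I) := by unfold σ; infer_instance

instance isAffineHom_ρ : IsAffineHom (ρ I) := by unfold ρ; infer_instance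

/-- `X_S = X ×_A Spec S`. -/
noncomputable def XS : Scheme.{u} := pullback (X ↘ Spec (CommRingCat.of A)) (σ I)

/-- The projection `X_S ⟶ X`. -/
noncomputable def g : XS I X ⟶ X := pullback.fst _ _

noncomputable instance overXS : (XS I X).Over (Spec (CommRingCat.of ↥(reesAlgebra I))) :=
  ⟨pullback.snd _ _⟩

lemma XS_over : (XS I X ↘ Spec (CommRingCat.of ↥(reesAlgebra I))) =
    pullback.snd (X ↘ Spec (CommRingCat.of A)) (σ I) := rfl

lemma g_comp : g I X ≫ (X ↘ Spec (CommRingCat.of A)) =
    (XS I X ↘ Spec (CommRingCat.of ↥(reesAlgebra I))) ≫ σ I := pullback.condition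

instance isProper_XS [IsProper (X ↘ Spec (CommRingCat.of A))] :
    IsProper (XS I X ↘ Spec (CommRingCat.of ↥(reesAlgebra I))) := by
  rw [XS_over]; exact MorphismProperty.pullback_snd _ _ inferInstance

instance isAffineHom_g : IsAffineHom (g I X) := by
  unfold g; exact MorphismProperty.pullback_fst _ _ inferInstance

/-- `X_{A[t]} = X_S ×_S Spec A[t]`. -/
noncomputable def XT : Scheme.{u} :=
  pullback (XS I X ↘ Spec (CommRingCat.of ↥(reesAlgebra I))) (ρ I)

/-- The projection `X_{A[t]} ⟶ X_S`. -/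
noncomputable def h : XT I X ⟶ XS I X := pullback.fst _ _

noncomputable instance overXT : (XT I X).Over (Spec (CommRingCat.of (Polynomial A))) :=
  ⟨pullback.snd _ _⟩

lemma XT_over : (XT I X ↘ Spec (CommRingCat.of (Polynomial A))) =
    pullback.snd (XS I X ↘ Spec (CommRingCat.of ↥(reesAlgebra I))) (ρ I) := rfl

lemma h_comp : h I X ≫ (XS I X ↘ Spec (CommRingCat.of ↥(reesAlgebra I))) =
    (XT I X ↘ Spec (CommRingCat.of (Polynomial A))) ≫ ρ I := pullback.condition

instance isAffineHom_h : IsAffineHom (h I X) := by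
  unfold h; exact MorphismProperty.pullback_fst _ _ inferInstance

section Modules

open Scheme.Modules

variable (F : X.Modules)

/-- `g^* F` on `X_S`. -/
noncomputable abbrev GF : (XS I X).Modules := (Scheme.Modules.pullback (g I X)).obj F

/-- `h^* g^* F` on `X_{A[t]}` (the module `F[t]`). -/
noncomputable abbrev NF : (XT I X).Modules := (Scheme.Modules.pullback (h I X)).obj (GF I X F)

/-- The unit `g^*F ⟶ h_* h^* g^* F` (on sections over affines: `M ⊗_A S ⟶ M ⊗_A A[t]`). -/
noncomputable def η : GF I X F ⟶ (Scheme.Modules.pushforward (h I X)).obj (NF I X F) :=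
  (Scheme.Modules.pullbackPushforwardAdjunction (h I X)).unit.app (GF I X F)

/-- The Rees module sheaf `ℛ = image (g^*F ⟶ h_* h^* g^* F)` on `X_S`
(on affines: `⊕_k I^k M t^k ⊆ M[t]`). -/
noncomputable def ℛ : (XS I X).Modules := Limits.image (η I X F)

/-- The inclusion `ℛ ⟶ h_* h^* g^* F`. -/
noncomputable def ℛι : ℛ I X F ⟶ (Scheme.Modules.pushforward (h I X)).obj (NF I X F) :=
  Limits.image.ι (η I X F)

/-- The projection `g^* F ⟶ ℛ`. -/
noncomputable def ℛπ : GF I X F ⟶ ℛ I X F := Limits.factorThruImage (η I X F)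

instance mono_ℛι : Mono (ℛι I X F) := inferInstanceAs (Mono (Limits.image.ι (η I X F)))

instance epi_ℛπ : Epi (ℛπ I X F) := inferInstanceAs (Epi (Limits.factorThruImage (η I X F)))

@[reassoc (attr := simp)]
lemma ℛπ_ι : ℛπ I X F ≫ ℛι I X F = η I X F := Limits.image.fac _

/-- The ambient module `g_* h_* h^* g^* F` on `X` (sections over affines: `M[t]`). -/
noncomputable abbrev amb : X.Modules :=
  (Scheme.Modules.pushforward (g I X)).obj
    ((Scheme.Modules.pushforward (h I X)).obj (NF I X F))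

/-- The unit `F ⟶ g_* g^* F`. -/
noncomputable def ug : F ⟶ (Scheme.Modules.pushforward (g I X)).obj (GF I X F) :=
  (Scheme.Modules.pullbackPushforwardAdjunction (g I X)).unit.app F

/-- The canonical map `F ⟶ g_* h_* h^* g^* F` (constants `M ⟶ M[t]`). -/
noncomputable def uu : F ⟶ amb I X F :=
  ug I X F ≫ (Scheme.Modules.pushforward (g I X)).map (η I X F)

/-- Multiplication by `t` on the ambient module. -/
noncomputable def τ : amb I X F ⟶ amb I X F :=
  (Scheme.Modules.pushforward (g I X)).map ((Scheme.Modules.pushforward (h I X)).map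
    (Formal.smulMod (Polynomial A) (NF I X F) Polynomial.X))

/-- `k`-fold multiplication by `t`. -/
noncomputable def τpow : ℕ → (amb I X F ⟶ amb I X F)
  | 0 => 𝟙 _
  | (k + 1) => τpow k ≫ τ I X F

/-- The inclusion `g_* ℛ ⟶ amb`. -/
noncomputable def jj : (Scheme.Modules.pushforward (g I X)).obj (ℛ I X F) ⟶ amb I X F :=
  (Scheme.Modules.pushforward (g I X)).map (ℛι I X F)

instance mono_jj : Mono (jj I X F) :=
  inferInstanceAs (Mono ((Scheme.Modules.pushforward (g I X)).map (ℛι I X F)))

end Modules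

end Groth.Agent.H65.Rees
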