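import Groth.Agent.H65.Rees.Setup

/-!
# REES chain: scalar multiplications on the setup

* `pushforward_map_smulMod`: for `f : Y ⟶ Z` over a ring map `φ : A' → B'`,
  `f_* (φ a · ) = (a ·)` on `f_* N`.
* the multiplications by `s ∈ S` on `ℛ`, `h_* h^* g^* F`, and by `a ∈ A`, `t` on the ambient module.
-/

set_option autoImplicit false
universe u
open CategoryTheory CategoryTheory.Limits AlgebraicGeometry

namespace Groth.Agent.H65.Rees

section General

variable {A' B' : Type u} [CommRing A'] [CommRing B'] (φ : A' →+* B')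
  {Y Z : Scheme.{u}} [Y.Over (Spec (CommRingCat.of B'))] [Z.Over (Spec (CommRingCat.of A'))]
  (f : Y ⟶ Z)

lemma toGlobal_comp
    (hf : (Y ↘ Spec (CommRingCat.of B')) ≫ Spec.map (CommRingCat.ofHom φ) =
      f ≫ (Z ↘ Spec (CommRingCat.of A'))) (a : A') :
    f.appTop.hom (Coh.toGlobal (Z ↘ Spec (CommRingCat.of A')) a) =
      Coh.toGlobal (Y ↘ Spec (CommRingCat.of B')) (φ a) := by
  unfold Coh.toGlobal
  have h1 : (Scheme.ΓSpecIso (CommRingCat.of A')).inv ≫ (Z ↘ Spec (CommRingCat.of A')).appTop ≫
      f.appTop = CommRingCat.ofHom φ ≫ (Scheme.ΓSpecIso (CommRingCat.of B')).inv ≫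
        (Y ↘ Spec (CommRingCat.of B')).appTop := by
    rw [← Scheme.Hom.comp_appTop, ← hf, Scheme.Hom.comp_appTop,
      Scheme.ΓSpecIso_inv_naturality_assoc]
  exact congrArg (fun ψ => ψ.hom a) h1

/-- `f_*` is compatible with multiplication by scalars of the base rings. -/
lemma pushforward_map_smulMod
    (hf : (Y ↘ Spec (CommRingCat.of B')) ≫ Spec.map (CommRingCat.ofHom φ) =
      f ≫ (Z ↘ Spec (CommRingCat.of A'))) (N : Y.Modules) (a : A') :
    (Scheme.Modules.pushforward f).map (Formal.smulMod B' N (φ a)) =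
      Formal.smulMod A' ((Scheme.Modules.pushforward f).obj N) a := by
  unfold Formal.smulMod
  rw [← toGlobal_comp φ f hf a]
  exact Groth.Agent.H30.SmulMod.pushforward_map_smulMod f N _

end General

section Setup

variable {A : Type u} [CommRing A] (I : Ideal A) (X : Scheme.{u})
  [X.Over (Spec (CommRingCat.of A))] (F : X.Modules)

open Groth.Agent.H70.Rees (mon)

/-- Multiplication by `s ∈ S` on the ambient module `g_* h_* h^* g^* F`. -/
noncomputable def ρs (s : ↥(reesAlgebra I)) : amb I X F ⟶ amb I X F :=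
  (Scheme.Modules.pushforward (g I X)).map
    (Formal.smulMod ↥(reesAlgebra I) ((Scheme.Modules.pushforward (h I X)).obj (NF I X F)) s)

/-- `s ∈ S` acts on `h_* N` through its image in `A[t]`. -/
lemma pushforward_h_smulMod (s : ↥(reesAlgebra I)) :
    (Scheme.Modules.pushforward (h I X)).map
        (Formal.smulMod (Polynomial A) (NF I X F) (s : Polynomial A)) =
      Formal.smulMod ↥(reesAlgebra I) ((Scheme.Modules.pushforward (h I X)).obj (NF I X F)) s :=
  pushforward_map_smulMod (reesAlgebra I).val.toRingHom (h I X) (h_comp I X).symm (NF I X F) s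

/-- `a ∈ A` acts on `g_* M` through its image in `S`. -/
lemma pushforward_g_smulMod (M : (XS I X).Modules) (a : A) :
    (Scheme.Modules.pushforward (g I X)).map
        (Formal.smulMod ↥(reesAlgebra I) M (algebraMap A ↥(reesAlgebra I) a)) =
      Formal.smulMod A ((Scheme.Modules.pushforward (g I X)).obj M) a :=
  pushforward_map_smulMod (algebraMap A ↥(reesAlgebra I)) (g I X) (g_comp I X).symm M a

lemma ρs_eq (s : ↥(reesAlgebra I)) :
    ρs I X F s = (Scheme.Modules.pushforward (g I X)).map
      ((Scheme.Modules.pushforward (h I X)).map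
        (Formal.smulMod (Polynomial A) (NF I X F) (s : Polynomial A))) := by
  rw [ρs, pushforward_h_smulMod]

/-- `g_*` of the multiplication by `s` on `ℛ` is the restriction of the multiplication by `s`
on the ambient module. -/
lemma map_smulMod_ℛ_jj (s : ↥(reesAlgebra I)) :
    (Scheme.Modules.pushforward (g I X)).map (Formal.smulMod ↥(reesAlgebra I) (ℛ I X F) s) ≫
      jj I X F = jj I X F ≫ ρs I X F s := by
  unfold jj ρs
  rw [← Functor.map_comp, ← Functor.map_comp,
    Groth.Agent.H44.smulMod_naturality ↥(reesAlgebra I) (ℛι I X F) s]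

lemma smulMod_pow (M : (XT I X).Modules) (p : Polynomial A) :
    ∀ k : ℕ, Formal.smulMod (Polynomial A) M (p ^ k) =
      (fun φ : M ⟶ M => φ ≫ Formal.smulMod (Polynomial A) M p)^[k] (𝟙 M)
  | 0 => by simp [Groth.Agent.H44.smulMod_one]
  | (k + 1) => by
    rw [pow_succ, Groth.Agent.H44.smulMod_mul, smulMod_pow M p k, Function.iterate_succ_apply']

lemma τpow_eq (k : ℕ) : τpow I X F k = (Scheme.Modules.pushforward (g I X)).map
    ((Scheme.Modules.pushforward (h I X)).map
      (Formal.smulMod (Polynomial A) (NF I X F) (Polynomial.X ^ k))) := by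
  induction k with
  | zero =>
    rw [pow_zero, Groth.Agent.H44.smulMod_one, CategoryTheory.Functor.map_id,
      CategoryTheory.Functor.map_id]
    rfl
  | succ k ih =>
    rw [pow_succ, Groth.Agent.H44.smulMod_mul, Functor.map_comp, Functor.map_comp, ← ih]
    rfl

lemma τpow_add (k r : ℕ) : τpow I X F (k + r) = τpow I X F k ≫ τpow I X F r := by
  rw [τpow_eq, τpow_eq, τpow_eq, pow_add, Groth.Agent.H44.smulMod_mul, Functor.map_comp,
    Functor.map_comp]

/-- The monomial `a t^k` acts on the ambient module as `a` followed by `t^k`. -/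
lemma ρs_mon (k : ℕ) (a : ↥(I ^ k)) :
    ρs I X F (mon I k a) = Formal.smulMod A (amb I X F) (a : A) ≫ τpow I X F k := by
  have h1 : ((mon I k a : ↥(reesAlgebra I)) : Polynomial A) =
      ((algebraMap A ↥(reesAlgebra I) (a : A) : ↥(reesAlgebra I)) : Polynomial A) *
        Polynomial.X ^ k := by
    rw [Groth.Agent.H70.Rees.coe_mon]
    change _ = Polynomial.C (a : A) * Polynomial.X ^ k
    rw [Polynomial.C_mul_X_pow_eq_monomial]
  rw [ρs_eq, h1, Groth.Agent.H44.smulMod_mul, Functor.map_comp, Functor.map_comp, ← τpow_eq,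
    pushforward_h_smulMod]
  congr 1
  exact pushforward_g_smulMod I X _ (a : A)

end Setup

end Groth.Agent.H65.Rees
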