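import Groth.Agent.H65.Rees.Psi

/-!
# REES chain: the interface between (R2) (sections over affine opens) and (R3)

For `U ⊆ X` affine open, `Γ(amb, U) = Γ(h^* g^* F, h⁻¹ g⁻¹ U)` is "`Γ(F, U)[t]`".  The two statements
below are what (R3) needs from (R2) in order to prove that `ΨS : ∐_k I^k F ⟶ g_* ℛ` is an isomorphism
(`F` quasi-coherent):

* `R2a`: the maps `x ↦ t^k x`, `Γ(F, U) → Γ(amb, U)`, are jointly injective on finite families;
* `R2b`: every section of `g_* ℛ` over `U` is, inside `Γ(amb, U)`, a finite sum `∑ t^k x_k` with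
  `x_k ∈ I^k Γ(F, U)`.
-/

set_option autoImplicit false
universe u
open CategoryTheory CategoryTheory.Limits AlgebraicGeometry

namespace Groth.Agent.H65.Rees

variable {A : Type u} [CommRing A] (I : Ideal A) (X : Scheme.{u})
  [X.Over (Spec (CommRingCat.of A))] (F : X.Modules)

/-- `x ↦ t^k x`, `F ⟶ amb`. -/
noncomputable def tk (k : ℕ) : F ⟶ amb I X F := uu I X F ≫ τpow I X F k

/-- `I^k Γ(F, U)` as an additive subgroup of `Γ(F, U)`. -/
noncomputable def IkM (U : X.Opens) (k : ℕ) : AddSubgroup Γ(F, U) :=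
  AddSubgroup.closure {x | ∃ a ∈ I ^ k, ∃ y : Γ(F, U), x = (Formal.smulMod A F a).app U y}

/-- (R2a) independence of the powers of `t`. -/
def R2a : Prop :=
  ∀ (U : X.Opens), IsAffineOpen U → ∀ (T : Finset ℕ) (m : ℕ → Γ(F, U)),
    (∑ k ∈ T, (tk I X F k).app U (m k)) = 0 → ∀ k ∈ T, m k = 0

/-- (R2b) the sections of `g_* ℛ` are the `∑ t^k x_k` with `x_k ∈ I^k Γ(F, U)`. -/
def R2b : Prop :=
  ∀ (U : X.Opens), IsAffineOpen U →
    ∀ s : Γ((Scheme.Modules.pushforward (g I X)).obj (ℛ I X F), U),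
      ∃ (T : Finset ℕ) (m : ℕ → Γ(F, U)), (∀ k ∈ T, m k ∈ IkM I X F U k) ∧
        (jj I X F).app U s = ∑ k ∈ T, (tk I X F k).app U (m k)

end Groth.Agent.H65.Rees
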